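import Mathlib
import Cfsg.Agent.Lib.Transfer.ZJ
import Cfsg.Agent.Lib.Basics.Schmidt
import Cfsg.Agent.Lib.OddLocal.Puig
import Cfsg.Agent.Lib.Transfer.Residual

/-!
# Quadratic elements in constrained `p`-stable groups
-/

set_option autoImplicit false
set_option linter.style.haveILetI false
set_option linter.unusedSectionVars false

namespace Cfsg.Agent.PairStable23

open Subgroup Cfsg Cfsg.Agent.Transfer
open scoped commutatorElement

/-- `x` acts quadratically on `V`. -/
def Quad {G : Type*} [Group G] (V : Subgroup G) (x : G) : Prop :=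
  ⁅⁅V, zpowers x⁆, zpowers x⁆ = ⊥

variable {G : Type*} [Group G]

theorem quad_of_abelian {A X : Subgroup G} (hA : ∀ a ∈ A, ∀ b ∈ A, a * b = b * a)
    (hX : X ≤ normalizer (A : Set G)) {a : G} (ha : a ∈ A) : Quad X a := by
  have h1 : ⁅X, zpowers a⁆ ≤ A := commutator_le.mpr fun x hx s hs => by
    have hsA : s ∈ A := zpowers_le.mpr ha hs
    rw [commutatorElement_def]
    exact mul_mem ((mem_normalizer_iff.mp (hX hx) s).mp hsA) (inv_mem hsA)
  refine eq_bot_iff.mpr (commutator_le.mpr fun y hy s hs => ?_)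
  rw [mem_bot, commutatorElement_eq_one_iff_mul_comm]
  exact hA _ (h1 hy) _ (zpowers_le.mpr ha hs)

theorem Quad.mono {Q V : Subgroup G} {x : G} (h : Quad V x) (hQ : Q ≤ V) : Quad Q x :=
  eq_bot_iff.mpr ((commutator_mono (commutator_mono hQ le_rfl) le_rfl).trans h.le)

theorem Quad.map {H : Type*} [Group H] {V : Subgroup G} {x : G} (h : Quad V x) (f : G →* H) :
    Quad (V.map f) (f x) := by
  show ⁅⁅V.map f, zpowers (f x)⁆, zpowers (f x)⁆ = ⊥
  rw [← MonoidHom.map_zpowers, ← map_commutator, ← map_commutator, h, Subgroup.map_bot]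

theorem Quad.subgroupOf {V M : Subgroup G} {x : G} (h : Quad V x) (hV : V ≤ M) (hx : x ∈ M) :
    Quad (V.subgroupOf M) (⟨x, hx⟩ : M) := by
  show _ = ⊥
  apply map_injective M.subtype_injective
  rw [Subgroup.map_bot, map_commutator, map_commutator, MonoidHom.map_zpowers,
    map_subgroupOf_eq_of_le hV]
  exact h

variable [Finite G] {p : ℕ} [hp : Fact p.Prime]

theorem pow_eq_one_of_mem {A : Subgroup G} (hA : IsPGroup p A) {a : G} (ha : a ∈ A) :
    ∃ k, a ^ p ^ k = 1 := by
  obtain ⟨k, hk⟩ := hA ⟨a, ha⟩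
  exact ⟨k, by simpa [Subtype.ext_iff] using hk⟩

theorem pCore_quotient_eq_bot : pCore p (G ⧸ pCore p G) = ⊥ := by
  have h1 : (pCore p (G ⧸ pCore p G)).comap (QuotientGroup.mk' (pCore p G)) ≤ pCore p G :=
    Basics.le_pCore ((Basics.pCore_isPGroup p).comap_of_ker_isPGroup _
      (by rw [QuotientGroup.ker_mk']; exact Basics.pCore_isPGroup p))
  refine (eq_bot_iff_forall _).mpr fun q hq => ?_
  obtain ⟨g, rfl⟩ := QuotientGroup.mk'_surjective _ q
  exact (QuotientGroup.eq_one_iff g).mpr (h1 hq)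

/-- In a constrained `p`-stable group an abelian `p`-subgroup normalised by the core lies in it. -/
theorem le_pCore_of_abelian (hst : PStableElts p G)
    (hc : centralizer (pCore p G : Set G) ≤ pCore p G) {A : Subgroup G} (hAp : IsPGroup p A)
    (hA : ∀ a ∈ A, ∀ b ∈ A, a * b = b * a) (hAn : pCore p G ≤ normalizer (A : Set G)) :
    A ≤ pCore p G := by
  intro a ha
  have h := hst (pCore p G) (Basics.pCore_isPGroup p) a (pow_eq_one_of_mem hAp ha)
    (quad_of_abelian hA hAn ha)
  refine Basics.le_pCore ?_ (show a ∈ (pCore p (G ⧸ centralizer (pCore p G : Set G))).comap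
    (QuotientGroup.mk' _) from h)
  exact (Basics.pCore_isPGroup p).comap_of_ker_isPGroup _
    (by rw [QuotientGroup.ker_mk']; exact (Basics.pCore_isPGroup p).to_le hc)

/-- A quadratic element of a `p`-subgroup normalised by `C(V) O_p(G)` lies in `O_p(G)`. -/
theorem mem_pCore_of_quad (hst : PStableElts p G) (V : Subgroup G) [V.Normal] (hV : IsPGroup p V)
    {R : Subgroup G} (hR : IsPGroup p R)
    (hnR : centralizer (V : Set G) ⊔ pCore p G ≤ normalizer (R : Set G))
    {x : G} (hx : x ∈ R) (hq : Quad V x) : x ∈ pCore p G := by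
  haveI : (centralizer (V : Set G)).Normal := normal_centralizer
  set C := centralizer (V : Set G)
  set H := C ⊔ pCore p G
  set π := QuotientGroup.mk' (pCore p G)
  haveI : H.Normal := sup_normal C (pCore p G)
  -- commutators of `x` with `H` fall into the core
  have hcomm : ∀ h ∈ H, ⁅h, x⁆ ∈ pCore p G := by
    intro h hh
    have hnK : ((R ⊓ H).subgroupOf H).Normal := by
      refine ⟨fun a ha b => ⟨?_, (b * a * b⁻¹).2⟩⟩
      exact (mem_normalizer_iff.mp (hnR b.2) a).mp ha.1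
    have hK : IsPGroup p ((R ⊓ H).subgroupOf H) := (hR.to_le inf_le_left).comap_subtype
    haveI : ((pCore p H).map H.subtype).Normal := ConjAct.normal_of_characteristic_of_normal
    refine Basics.le_pCore (N := (pCore p H).map H.subtype) ((Basics.pCore_isPGroup p).map _) ?_
    have hmem : ⁅h, x⁆ ∈ R ⊓ H := by
      refine ⟨?_, ?_⟩
      · rw [commutatorElement_def]
        exact R.mul_mem ((mem_normalizer_iff.mp (hnR hh) x).mp hx) (R.inv_mem hx)
      · rw [commutatorElement_def, mul_assoc h x, mul_assoc h]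
        exact mul_mem hh ((inferInstance : H.Normal).conj_mem _ (H.inv_mem hh) x)
    exact ⟨⟨_, hmem.2⟩, Basics.le_pCore hK hmem, rfl⟩
  haveI : (H.map π).Normal := Normal.map inferInstance π (QuotientGroup.mk'_surjective _)
  haveI : (centralizer ((H.map π : Subgroup (G ⧸ pCore p G)) : Set (G ⧸ pCore p G))).Normal := normal_centralizer
  set L := (pCore p (G ⧸ C)).comap (QuotientGroup.mk' C)
  set E := L ⊓ (centralizer ((H.map π : Subgroup (G ⧸ pCore p G)) : Set (G ⧸ pCore p G))).comap π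
  haveI : E.Normal := inferInstance
  haveI : (E.map π).Normal := Normal.map inferInstance π (QuotientGroup.mk'_surjective _)
  set Eb := E.map π
  set Z := (H.map π).subgroupOf Eb
  have hZc : Z ≤ center Eb := by
    intro z hz
    refine mem_center_iff.mpr fun e => Subtype.ext ?_
    obtain ⟨e₀, he₀, hee⟩ := e.2
    show (e : G ⧸ pCore p G) * z = z * e
    rw [← hee]
    exact (mem_centralizer_iff.mp he₀.2 _ hz).symm
  have hQ : IsPGroup p (Eb ⧸ Z) := by
    intro q
    obtain ⟨⟨_, e₀, he₀, rfl⟩, rfl⟩ := QuotientGroup.mk'_surjective Z q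
    obtain ⟨k, hk⟩ := exists_pow_mem_of_comap_pCore C he₀.1
    refine ⟨k, ?_⟩
    rw [← map_pow]
    refine (QuotientGroup.eq_one_iff _).mpr ?_
    show (π e₀) ^ p ^ k ∈ H.map π
    rw [← map_pow]
    exact mem_map_of_mem π (mem_sup_left hk)
  haveI : Group.IsNilpotent (Eb ⧸ Z) := hQ.isNilpotent
  haveI : Group.IsNilpotent Eb := Subgroup.isNilpotent_of_ker_le_center (QuotientGroup.mk' Z)
    (by rwa [QuotientGroup.ker_mk'])
  have hxE : x ∈ E := by
    refine ⟨hst V hV x (pow_eq_one_of_mem hR hx) hq, mem_centralizer_iff.mpr ?_⟩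
    rintro _ ⟨h, hh, rfl⟩
    rw [← commutatorElement_eq_one_iff_mul_comm, ← map_commutatorElement]
    exact (QuotientGroup.eq_one_iff _).mpr (hcomm h hh)
  obtain ⟨k, hk⟩ := pow_eq_one_of_mem hR hx
  have hxp : IsPGroup p (zpowers (⟨π x, mem_map_of_mem π hxE⟩ : Eb)) := by
    obtain ⟨i, -, hi⟩ := (Nat.dvd_prime_pow hp.out).mp (orderOf_dvd_of_pow_eq_one
      (x := (⟨π x, mem_map_of_mem π hxE⟩ : Eb)) (n := p ^ k)
      (Subtype.ext (by show π x ^ p ^ k = 1; rw [← map_pow, hk, map_one])))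
    exact IsPGroup.of_card (n := i) (by rw [Nat.card_zpowers, hi])
  obtain ⟨P, hP⟩ := hxp.exists_le_sylow
  haveI : (P : Subgroup Eb).Characteristic := P.characteristic_of_normal inferInstance
  haveI : ((P : Subgroup Eb).map Eb.subtype).Normal := ConjAct.normal_of_characteristic_of_normal
  have h1 : π x ∈ pCore p (G ⧸ pCore p G) :=
    Basics.le_pCore (P.2.map Eb.subtype) ⟨_, hP (mem_zpowers _), rfl⟩
  rw [pCore_quotient_eq_bot, mem_bot] at h1
  exact (QuotientGroup.eq_one_iff x).mp h1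

/-- A normal subgroup of the centre of the core on which all quadratic elements are trivial. -/
theorem exists_seed (hst : PStableElts p G) (hne : pCore p G ≠ ⊥) :
    ∃ Q : Subgroup G, Q.Normal ∧ Q ≠ ⊥ ∧ Q ≤ pCore p G ∧ (∀ a ∈ Q, ∀ b ∈ Q, a * b = b * a) ∧
      (∀ a ∈ Q, ∀ b ∈ pCore p G, a * b = b * a) ∧
      ∀ x : G, (∃ k, x ^ p ^ k = 1) → Quad Q x → ∀ v ∈ Q, x * v = v * x := by
  set X := pCore p G
  set Z₀ := (center X).map X.subtype
  haveI : Z₀.Normal := ConjAct.normal_of_characteristic_of_normal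
  haveI : Nontrivial X := X.nontrivial_iff_ne_bot.mpr hne
  have hZ0 : Z₀ ≠ ⊥ := fun h => by
    have h' := (Subgroup.map_eq_bot_iff_of_injective _ X.subtype_injective).mp h
    exact (nontrivial_iff_ne_bot _).mp (Basics.pCore_isPGroup p).center_nontrivial h'
  classical
  haveI : Nonempty {Q : Subgroup G // Q.Normal ∧ Q ≠ ⊥ ∧ Q ≤ Z₀} := ⟨⟨Z₀, inferInstance, hZ0, le_rfl⟩⟩
  obtain ⟨⟨Q, hQn, hQ1, hQZ⟩, hmin⟩ := Finite.exists_min
    (fun Q : {Q : Subgroup G // Q.Normal ∧ Q ≠ ⊥ ∧ Q ≤ Z₀} => Nat.card (Q : Subgroup G))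
  haveI := hQn
  have hZX : ∀ a ∈ Z₀, ∀ b ∈ X, a * b = b * a := by
    rintro _ ⟨a, ha, rfl⟩ b hb
    exact congrArg Subtype.val (mem_center_iff.mp ha ⟨b, hb⟩).symm
  have hQX : Q ≤ X := hQZ.trans (map_subtype_le _)
  refine ⟨Q, hQn, hQ1, hQX, fun a ha b hb => hZX a (hQZ ha) b (hQX hb), fun a ha b hb => hZX a (hQZ ha) b hb, ?_⟩
  intro x hx hq v hv
  haveI : (centralizer (Q : Set G)).Normal := normal_centralizer
  set C := centralizer (Q : Set G)
  set L := (pCore p (G ⧸ C)).comap (QuotientGroup.mk' C)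
  haveI : (centralizer (L : Set G)).Normal := normal_centralizer
  obtain ⟨S⟩ : Nonempty (Sylow p G) := inferInstance
  have hQS : Q ≤ (S : Subgroup G) := hQX.trans (Basics.pCore_le_sylow p S)
  obtain ⟨z, hzQ, hzc, hz1⟩ : ∃ z : G, z ∈ Q ∧ (∀ s ∈ (S : Subgroup G), s * z = z * s) ∧ z ≠ 1 := by
    haveI : (Q.subgroupOf (S : Subgroup G)).Normal := hQn.subgroupOf _
    obtain ⟨b, hb, hbc, hb1⟩ := OddLocal.exists_mem_center_ne_one_of_normal S.2
      (N := Q.subgroupOf (S : Subgroup G)) (fun h => hQ1 (by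
        have := congrArg (Subgroup.map (S : Subgroup G).subtype) h
        rwa [map_subgroupOf_eq_of_le hQS, Subgroup.map_bot] at this))
    exact ⟨b, hb, fun s hs => congrArg Subtype.val (mem_center_iff.mp hbc ⟨s, hs⟩),
      fun h => hb1 (Subtype.ext h)⟩
  have hLz : L ≤ centralizer ({z} : Set G) := by
    rw [← subgroupOf_eq_top]
    refine Basics.eq_top_of_sylow_le _ fun r hr _ => ?_
    by_cases hrp : r = p
    · subst hrp
      obtain ⟨T, hT⟩ := exists_sylow_eq_subgroupOf S L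
      refine ⟨T, fun t ht => mem_centralizer_singleton_iff.mpr ?_⟩
      rw [hT] at ht
      exact hzc _ ht
    · obtain ⟨T⟩ : Nonempty (Sylow r L) := inferInstance
      refine ⟨T, fun t ht => ?_⟩
      haveI := hr
      obtain ⟨i, hi⟩ := (IsPGroup.iff_orderOf.mp T.2) ⟨t, ht⟩
      rw [← Subgroup.orderOf_coe, ← Subgroup.orderOf_coe] at hi
      obtain ⟨k, hk⟩ := exists_pow_mem_of_comap_pCore C t.2
      obtain ⟨m, hm⟩ := exists_pow_eq_self_of_coprime (x := (t : G)) (n := p ^ k)
        (by rw [hi]; exact Nat.coprime_pow_primes _ _ hp.out hr.out (Ne.symm hrp))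
      refine mem_centralizer_singleton_iff.mpr ?_
      have htC : (t : G) ∈ C := hm ▸ pow_mem hk m
      exact (mem_centralizer_iff.mp htC z hzQ).symm
  have hF : Q ⊓ centralizer (L : Set G) = Q := by
    refine eq_of_le_of_card_ge inf_le_left (hmin ⟨_, inferInstance, fun h => hz1 ?_, inf_le_left.trans hQZ⟩)
    have : z ∈ Q ⊓ centralizer (L : Set G) :=
      ⟨hzQ, mem_centralizer_iff.mpr fun l hl => mem_centralizer_singleton_iff.mp (hLz hl)⟩
    rwa [h, mem_bot] at this
  exact mem_centralizer_iff.mp (hF.ge hv).2 x (hst Q ((Basics.pCore_isPGroup p).to_le hQX) x hx hq)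

end Cfsg.Agent.PairStable23
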